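/-
Finite facts on the involutions of the unitriangular group.
-/
import Cfsg.Agent.UT5.Model

set_option autoImplicit false

noncomputable section

namespace Cfsg.Agent.UT5

open Subgroup U5

/-- commutator of two elements -/
def cm (a b : U5) : U5 := a * b * a⁻¹ * b⁻¹

/-- the class with centralizer `R1` -/
def P1 (a : U5) : Prop := a ∈ R1 ∧ a.a23 = true ∧ bx a.a14 (ba a.a13 a.a24) = true

/-- the class with centralizer `R2` -/
def P2 (a : U5) : Prop := a ∈ R2 ∧ a.a34 = true ∧ bx a.a25 (ba a.a24 a.a35) = true

/-- the class of `x24 * x35` -/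
def Q2 (a : U5) : Prop := a ∈ R2 ∧ a.a34 = false ∧ a.a35 = true ∧ a.a24 = true

instance instDecP1 : DecidablePred P1 := fun _ => instDecidableAnd
instance instDecP2 : DecidablePred P2 := fun _ => instDecidableAnd
instance instDecQ2 : DecidablePred Q2 := fun _ => instDecidableAnd

/-- pairs whose commutator is the central involution -/
def wl : List (U5 × U5) := [
  (⟨true, false, false, false, false, false, false, false, false, false⟩,
    ⟨false, false, false, false, false, false, true, false, false, false⟩),
  (⟨false, false, true, false, false, false, true, false, false, false⟩,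
    ⟨true, true, false, false, false, false, false, false, true, false⟩),
  (⟨false, true, false, false, false, false, false, false, false, false⟩,
    ⟨false, false, false, false, false, false, false, false, true, false⟩),
  (⟨false, true, true, false, false, false, false, false, false, false⟩,
    ⟨false, false, false, false, false, false, false, false, false, true⟩),
  (⟨false, false, true, false, false, false, false, false, false, false⟩,
    ⟨false, false, false, false, false, false, false, false, true, true⟩),
  (⟨false, true, false, false, false, true, false, false, false, false⟩,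
    ⟨true, false, false, false, false, false, false, true, true, false⟩),
  (⟨false, true, false, false, false, true, true, false, false, false⟩,
    ⟨true, false, false, false, false, false, false, true, false, false⟩),
  (⟨false, false, false, false, false, true, false, false, true, false⟩,
    ⟨false, true, false, false, true, false, false, false, false, true⟩),
  (⟨false, false, true, false, false, true, false, false, true, false⟩,
    ⟨false, false, false, false, true, false, false, false, false, true⟩),
  (⟨true, false, false, false, false, false, false, false, true, false⟩,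
    ⟨true, true, true, false, false, false, false, false, false, true⟩),
  (⟨false, true, true, false, false, false, false, false, false, false⟩,
    ⟨false, false, false, false, true, false, false, false, true, false⟩),
  (⟨true, false, false, false, false, true, false, false, false, false⟩,
    ⟨false, false, false, false, false, false, true, false, true, false⟩),
  (⟨false, true, true, false, false, false, false, false, false, false⟩,
    ⟨false, true, false, false, true, false, false, false, true, false⟩),
  (⟨true, false, false, false, false, true, true, false, false, false⟩,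
    ⟨false, false, false, false, false, false, true, false, true, false⟩),
  (⟨true, false, false, false, false, false, false, false, false, false⟩,
    ⟨false, false, true, false, false, false, true, false, false, false⟩)]

theorem wl_cm : ∀ p ∈ wl, cm p.1 p.2 = z0 := fun p hp => (beq_iff _ _).1
  (List.all_eq_true.1 (by decide +kernel : (wl.all fun p => beq (cm p.1 p.2) z0) = true) p hp)

/-- some pair of the list centralizes `a` -/
def wt (a : U5) (l : List (U5 × U5)) : Bool := @List.rec _ (fun _ => Bool) false
  (fun p _ r => bo (ba (beq (p.1 * a) (a * p.1)) (beq (p.2 * a) (a * p.2))) r) l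

theorem wt_ex {a : U5} {l : List (U5 × U5)} (h : wt a l = true) :
    ∃ p ∈ l, p.1 * a = a * p.1 ∧ p.2 * a = a * p.2 := by
  induction l with
  | nil => exact absurd h Bool.false_ne_true
  | cons p l ih =>
    change bo (ba _ _) (wt a l) = true at h
    rw [bo_eq, ba_eq, Bool.or_eq_true, Bool.and_eq_true, beq_iff, beq_iff] at h
    rcases h with h | h
    · exact ⟨p, List.mem_cons_self, h⟩
    · obtain ⟨q, hq, k⟩ := ih h
      exact ⟨q, List.mem_cons_of_mem _ hq, k⟩

theorem wl_spec : ∀ a : U5, a * a = 1 → P1 a ∨ P2 a ∨ wt a wl = true := by decide +kernel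

theorem z_cm {a : U5} (h : a * a = 1) (h1 : ¬ P1 a) (h2 : ¬ P2 a) :
    ∃ c d, c * a = a * c ∧ d * a = a * d ∧ cm c d = z0 := by
  obtain ⟨p, hp, k⟩ := wt_ex (((wl_spec a h).resolve_left h1).resolve_left h2)
  exact ⟨_, _, k.1, k.2, wl_cm p hp⟩

theorem P1_cent : ∀ a ∈ R1, P1 a → ∀ c, c * a = a * c → c ∈ R1 := by decide +kernel
theorem P2_cent : ∀ a ∈ R2, P2 a → ∀ c, c * a = a * c → c ∈ R2 := by decide +kernel
theorem Q2_cent : ∀ a ∈ R2, Q2 a → ∀ c, c * a = a * c → c * x25 = x25 * c := by decide +kernel

theorem cm_bits (a b : U5) : (cm a b).a12 = false ∧ (cm a b).a23 = false ∧ (cm a b).a34 = false ∧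
    (cm a b).a45 = false := by
  simp only [cm, mul_def, inv_def]
  have e : ∀ x y : Bool, (x ^^ y ^^ x ^^ y) = false := by decide
  exact ⟨e .., e .., e .., e ..⟩

theorem der_inv : ∀ a : U5, a.a12 = false → a.a23 = false → a.a34 = false → a.a45 = false →
    a * a = 1 → a ∈ R1 ∨ a ∈ R2 := by decide +kernel

theorem cm_mem {B : Subgroup U5} [h : B.Normal] {r : U5} (hr : r ∈ B) (s : U5) : cm r s ∈ B := by
  have := mul_mem hr (h.conj_mem _ (inv_mem hr) s)
  simpa [cm, mul_assoc] using this

theorem cm_cm {r : U5} (hr : r ∈ R2) (s t : U5) : cm (cm r s) t ∈ R1 := by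
  have h1 := cm_mem hr s
  have h2 := (cm_bits r s).2.2.1
  generalize cm r s = j at h1 h2
  obtain ⟨k1, -, k2, k3⟩ := cm_bits j t
  obtain ⟨l1, l2, l3, l4⟩ := h1
  refine ⟨k1, k2, ?_, k3⟩
  simp only [cm, mul_def, inv_def, h2, l4]
  generalize j.a35 = a, t.a34 = b, t.a35 = c, t.a45 = d
  revert a b c d
  decide

theorem z_cm_cm : ∀ a ∈ R2, a ∉ R1 → a.a34 = false → ¬ Q2 a → ∃ s ∈ [x12, x12 * x13],
    s * a = a * s ∧ ∃ t ∈ [x45, x13 * x45], t * a = a * t ∧ cm (cm x24 s) t = z0 := by
  decide +kernel

theorem Q2_cen : ∀ a ∈ R2, Q2 a → ∃ s ∈ [x23 * x45, x13 * x23 * x45], s * a = a * s ∧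
    ∀ y ∈ R2, s * y = y * s → (y ∈ [1, z0, x25, z0 * x25] ∨
      ∃ t ∈ [1, x13, x45, x13 * x45], t * a * t⁻¹ = y) ∧ (y ∈ R1 ∨ y * a ∈ R1) := by decide +kernel

theorem P2_z : ∀ a ∈ R2, P2 a → (∃ t ∈ [x12, x12 * x13], t * a * t⁻¹ = z0 * a) ∧
    (a * (x13 * a * x13⁻¹) = x14 ∨ a * (x13 * a * x13⁻¹) = z0 * x14) ∧
    ∀ y ∈ R2, ¬ P2 y ∨ ¬ P2 (a * y) := by decide +kernel

theorem rank_one : ∀ r ∈ R1, ∀ s ∈ R2, cm r s ≠ x14 * x25 ∧
    (cm r s ∈ [1, z0, x14, z0 * x14, x25, z0 * x25] ∨
      (x45 * cm r s * x45⁻¹ ≠ cm r s ∧ x45 * cm r s * x45⁻¹ = cm r (x45 * s * x45⁻¹))) := by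
  decide +kernel

theorem cm_x13 : ∀ s ∈ R2, cm x13 s ∈ [1, z0, x14, z0 * x14] := by decide +kernel

end Cfsg.Agent.UT5
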