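import Cfsg.Agent.UT5.Orth

set_option autoImplicit false

noncomputable section

namespace Cfsg.Agent.UT5

open Cfsg.Agent.H49 Subgroup

variable {Γ : Subgroup (MulAut V6)}

namespace Red

/-- the action of the dihedral group -/
def A (p q r : Bool) (v : V6) : V6 :=
  ⟨v.b12, bx v.b13 (ba p v.b12), bx (bx v.b14 (ba (bx q (ba p r)) v.b12)) (ba r v.b13),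
    bx (bx v.b25 (ba p v.b35)) (ba q v.b45), bx v.b35 (ba r v.b45), v.b45⟩

theorem act_eq (t : U5) (v : V6) : act t v = A t.a23 t.a24 t.a34 v := by
  ext <;> apply U5.tz_inj <;>
    simp only [act_apply, pr, sec, U5.mul_def, U5.inv_def, A, bx_eq, ba_eq, U5.tz_xor, U5.tz_and,
      show U5.tz false = 0 from rfl] <;> grind

/-- the Siegel map -/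
def S (a b v : V6) : V6 :=
  @Bool.rec (fun _ => V6) (@Bool.rec (fun _ => V6) v (V6.instMul.mul v b) (bf v a))
    (@Bool.rec (fun _ => V6) (V6.instMul.mul v a) (V6.instMul.mul (V6.instMul.mul v a) b) (bf v a))
    (bf v b)

/-- admissible pairs -/
abbrev Adm (a b : V6) : Prop := qf a = false ∧ qf b = false ∧ bf a b = false

/-- the Siegel map of a pair -/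
def T (n : V6 × V6) : V6 → V6 := S n.1 n.2

local notation "𝟙" => true
local notation "𝟘" => false

/-- the first singular space -/
def U0 (v : V6) : Bool := ba (bn v.b25) (ba (bn v.b35) (bn v.b45))

/-- the second singular space -/
def U1 (v : V6) : Bool := ba (be v.b25 v.b13) (ba (be v.b35 v.b12) (bn v.b45))

/-- the maps that keep only the first space -/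
def L0 : List (V6 × V6) := [
  (⟨𝟙, 𝟘, 𝟘, 𝟘, 𝟘, 𝟘⟩, ⟨𝟘, 𝟙, 𝟘, 𝟘, 𝟘, 𝟘⟩), (⟨𝟙, 𝟘, 𝟘, 𝟘, 𝟘, 𝟘⟩, ⟨𝟘, 𝟙, 𝟙, 𝟘, 𝟘, 𝟘⟩),
  (⟨𝟙, 𝟘, 𝟘, 𝟘, 𝟘, 𝟘⟩, ⟨𝟘, 𝟘, 𝟘, 𝟘, 𝟘, 𝟙⟩), (⟨𝟙, 𝟘, 𝟘, 𝟘, 𝟘, 𝟘⟩, ⟨𝟘, 𝟙, 𝟘, 𝟘, 𝟘, 𝟙⟩),
  (⟨𝟙, 𝟘, 𝟘, 𝟘, 𝟘, 𝟘⟩, ⟨𝟘, 𝟘, 𝟘, 𝟘, 𝟙, 𝟙⟩), (⟨𝟙, 𝟘, 𝟘, 𝟘, 𝟘, 𝟘⟩, ⟨𝟘, 𝟙, 𝟙, 𝟘, 𝟙, 𝟙⟩),
  (⟨𝟘, 𝟙, 𝟘, 𝟘, 𝟘, 𝟘⟩, ⟨𝟙, 𝟘, 𝟙, 𝟘, 𝟘, 𝟘⟩), (⟨𝟘, 𝟙, 𝟘, 𝟘, 𝟘, 𝟘⟩, ⟨𝟘, 𝟘, 𝟘, 𝟘, 𝟘, 𝟙⟩),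
  (⟨𝟘, 𝟙, 𝟘, 𝟘, 𝟘, 𝟘⟩, ⟨𝟙, 𝟘, 𝟘, 𝟘, 𝟘, 𝟙⟩), (⟨𝟘, 𝟙, 𝟘, 𝟘, 𝟘, 𝟘⟩, ⟨𝟘, 𝟘, 𝟘, 𝟙, 𝟘, 𝟙⟩),
  (⟨𝟘, 𝟙, 𝟘, 𝟘, 𝟘, 𝟘⟩, ⟨𝟙, 𝟘, 𝟙, 𝟙, 𝟘, 𝟙⟩), (⟨𝟙, 𝟙, 𝟘, 𝟘, 𝟘, 𝟘⟩, ⟨𝟙, 𝟘, 𝟙, 𝟘, 𝟘, 𝟘⟩),
  (⟨𝟙, 𝟙, 𝟘, 𝟘, 𝟘, 𝟘⟩, ⟨𝟘, 𝟘, 𝟘, 𝟘, 𝟘, 𝟙⟩), (⟨𝟙, 𝟙, 𝟘, 𝟘, 𝟘, 𝟘⟩, ⟨𝟙, 𝟘, 𝟘, 𝟘, 𝟘, 𝟙⟩),
  (⟨𝟙, 𝟙, 𝟘, 𝟘, 𝟘, 𝟘⟩, ⟨𝟘, 𝟘, 𝟘, 𝟙, 𝟙, 𝟙⟩), (⟨𝟙, 𝟙, 𝟘, 𝟘, 𝟘, 𝟘⟩, ⟨𝟙, 𝟘, 𝟙, 𝟙, 𝟙, 𝟙⟩),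
  (⟨𝟙, 𝟘, 𝟙, 𝟘, 𝟘, 𝟘⟩, ⟨𝟘, 𝟘, 𝟘, 𝟙, 𝟘, 𝟙⟩), (⟨𝟙, 𝟘, 𝟙, 𝟘, 𝟘, 𝟘⟩, ⟨𝟘, 𝟙, 𝟘, 𝟙, 𝟘, 𝟙⟩),
  (⟨𝟙, 𝟘, 𝟙, 𝟘, 𝟘, 𝟘⟩, ⟨𝟘, 𝟘, 𝟘, 𝟙, 𝟙, 𝟙⟩), (⟨𝟙, 𝟘, 𝟙, 𝟘, 𝟘, 𝟘⟩, ⟨𝟙, 𝟙, 𝟘, 𝟙, 𝟙, 𝟙⟩),
  (⟨𝟘, 𝟙, 𝟙, 𝟘, 𝟘, 𝟘⟩, ⟨𝟘, 𝟘, 𝟘, 𝟘, 𝟙, 𝟙⟩), (⟨𝟘, 𝟙, 𝟙, 𝟘, 𝟘, 𝟘⟩, ⟨𝟙, 𝟘, 𝟘, 𝟘, 𝟙, 𝟙⟩),
  (⟨𝟘, 𝟙, 𝟙, 𝟘, 𝟘, 𝟘⟩, ⟨𝟘, 𝟘, 𝟘, 𝟙, 𝟙, 𝟙⟩), (⟨𝟘, 𝟙, 𝟙, 𝟘, 𝟘, 𝟘⟩, ⟨𝟙, 𝟙, 𝟘, 𝟙, 𝟙, 𝟙⟩),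
  (⟨𝟙, 𝟙, 𝟙, 𝟘, 𝟘, 𝟘⟩, ⟨𝟘, 𝟘, 𝟘, 𝟙, 𝟘, 𝟙⟩), (⟨𝟙, 𝟙, 𝟙, 𝟘, 𝟘, 𝟘⟩, ⟨𝟘, 𝟙, 𝟘, 𝟙, 𝟘, 𝟙⟩),
  (⟨𝟙, 𝟙, 𝟙, 𝟘, 𝟘, 𝟘⟩, ⟨𝟘, 𝟘, 𝟘, 𝟘, 𝟙, 𝟙⟩), (⟨𝟙, 𝟙, 𝟙, 𝟘, 𝟘, 𝟘⟩, ⟨𝟙, 𝟘, 𝟘, 𝟘, 𝟙, 𝟙⟩)]

/-- the maps that keep only the second space -/
def L1 : List (V6 × V6) := [
  (⟨𝟘, 𝟙, 𝟘, 𝟙, 𝟘, 𝟘⟩, ⟨𝟙, 𝟘, 𝟘, 𝟘, 𝟙, 𝟘⟩), (⟨𝟘, 𝟙, 𝟘, 𝟙, 𝟘, 𝟘⟩, ⟨𝟙, 𝟘, 𝟙, 𝟘, 𝟙, 𝟘⟩),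
  (⟨𝟘, 𝟙, 𝟘, 𝟙, 𝟘, 𝟘⟩, ⟨𝟘, 𝟘, 𝟘, 𝟘, 𝟘, 𝟙⟩), (⟨𝟘, 𝟙, 𝟘, 𝟙, 𝟘, 𝟘⟩, ⟨𝟘, 𝟙, 𝟘, 𝟘, 𝟘, 𝟙⟩),
  (⟨𝟘, 𝟙, 𝟘, 𝟙, 𝟘, 𝟘⟩, ⟨𝟙, 𝟘, 𝟘, 𝟘, 𝟙, 𝟙⟩), (⟨𝟘, 𝟙, 𝟘, 𝟙, 𝟘, 𝟘⟩, ⟨𝟙, 𝟙, 𝟙, 𝟘, 𝟙, 𝟙⟩),
  (⟨𝟘, 𝟙, 𝟙, 𝟙, 𝟘, 𝟘⟩, ⟨𝟙, 𝟘, 𝟘, 𝟘, 𝟙, 𝟘⟩), (⟨𝟘, 𝟙, 𝟙, 𝟙, 𝟘, 𝟘⟩, ⟨𝟙, 𝟘, 𝟙, 𝟘, 𝟙, 𝟘⟩),
  (⟨𝟘, 𝟙, 𝟙, 𝟙, 𝟘, 𝟘⟩, ⟨𝟙, 𝟘, 𝟘, 𝟘, 𝟘, 𝟙⟩), (⟨𝟘, 𝟙, 𝟙, 𝟙, 𝟘, 𝟘⟩, ⟨𝟙, 𝟙, 𝟘, 𝟘, 𝟘, 𝟙⟩),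
  (⟨𝟘, 𝟙, 𝟙, 𝟙, 𝟘, 𝟘⟩, ⟨𝟘, 𝟘, 𝟘, 𝟘, 𝟙, 𝟙⟩), (⟨𝟘, 𝟙, 𝟙, 𝟙, 𝟘, 𝟘⟩, ⟨𝟘, 𝟙, 𝟙, 𝟘, 𝟙, 𝟙⟩),
  (⟨𝟙, 𝟘, 𝟘, 𝟘, 𝟙, 𝟘⟩, ⟨𝟘, 𝟘, 𝟘, 𝟘, 𝟘, 𝟙⟩), (⟨𝟙, 𝟘, 𝟘, 𝟘, 𝟙, 𝟘⟩, ⟨𝟙, 𝟘, 𝟘, 𝟘, 𝟘, 𝟙⟩),
  (⟨𝟙, 𝟘, 𝟘, 𝟘, 𝟙, 𝟘⟩, ⟨𝟘, 𝟙, 𝟘, 𝟙, 𝟘, 𝟙⟩), (⟨𝟙, 𝟘, 𝟘, 𝟘, 𝟙, 𝟘⟩, ⟨𝟙, 𝟙, 𝟙, 𝟙, 𝟘, 𝟙⟩),
  (⟨𝟙, 𝟘, 𝟙, 𝟘, 𝟙, 𝟘⟩, ⟨𝟘, 𝟙, 𝟘, 𝟘, 𝟘, 𝟙⟩), (⟨𝟙, 𝟘, 𝟙, 𝟘, 𝟙, 𝟘⟩, ⟨𝟙, 𝟙, 𝟘, 𝟘, 𝟘, 𝟙⟩),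
  (⟨𝟙, 𝟘, 𝟙, 𝟘, 𝟙, 𝟘⟩, ⟨𝟘, 𝟘, 𝟘, 𝟙, 𝟘, 𝟙⟩), (⟨𝟙, 𝟘, 𝟙, 𝟘, 𝟙, 𝟘⟩, ⟨𝟙, 𝟘, 𝟙, 𝟙, 𝟘, 𝟙⟩),
  (⟨𝟙, 𝟙, 𝟘, 𝟙, 𝟙, 𝟘⟩, ⟨𝟘, 𝟘, 𝟘, 𝟘, 𝟘, 𝟙⟩), (⟨𝟙, 𝟙, 𝟘, 𝟙, 𝟙, 𝟘⟩, ⟨𝟙, 𝟙, 𝟘, 𝟘, 𝟘, 𝟙⟩),
  (⟨𝟙, 𝟙, 𝟘, 𝟙, 𝟙, 𝟘⟩, ⟨𝟘, 𝟙, 𝟘, 𝟙, 𝟘, 𝟙⟩), (⟨𝟙, 𝟙, 𝟘, 𝟙, 𝟙, 𝟘⟩, ⟨𝟙, 𝟘, 𝟙, 𝟙, 𝟘, 𝟙⟩),
  (⟨𝟙, 𝟙, 𝟙, 𝟙, 𝟙, 𝟘⟩, ⟨𝟙, 𝟘, 𝟘, 𝟘, 𝟘, 𝟙⟩), (⟨𝟙, 𝟙, 𝟙, 𝟙, 𝟙, 𝟘⟩, ⟨𝟘, 𝟙, 𝟘, 𝟘, 𝟘, 𝟙⟩),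
  (⟨𝟙, 𝟙, 𝟙, 𝟙, 𝟙, 𝟘⟩, ⟨𝟘, 𝟘, 𝟘, 𝟙, 𝟘, 𝟙⟩), (⟨𝟙, 𝟙, 𝟙, 𝟙, 𝟙, 𝟘⟩, ⟨𝟙, 𝟙, 𝟙, 𝟙, 𝟘, 𝟙⟩)]

/-- a basis -/
def B : List V6 := [⟨𝟙, 𝟘, 𝟘, 𝟘, 𝟘, 𝟘⟩, ⟨𝟘, 𝟙, 𝟘, 𝟘, 𝟘, 𝟘⟩, ⟨𝟘, 𝟘, 𝟙, 𝟘, 𝟘, 𝟘⟩, ⟨𝟘, 𝟘, 𝟘, 𝟙, 𝟘, 𝟘⟩,
  ⟨𝟘, 𝟘, 𝟘, 𝟘, 𝟙, 𝟘⟩, ⟨𝟘, 𝟘, 𝟘, 𝟘, 𝟘, 𝟙⟩]

theorem ext6 {f g : MulAut V6} (h : ∀ v ∈ B, f v = g v) : f = g := by
  ext1 v
  obtain ⟨l, hl, rfl⟩ := (by decide +kernel : ∀ v : V6, ∃ l ∈ B.sublists, l.prod = v) v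
  exact List.prod_induction (fun v => f v = g v) (fun a b ha hb => by rw [map_mul, map_mul, ha, hb])
    (by simp) fun x hx => h x ((List.mem_sublists.1 hl).subset hx)

/-- the elements of the dihedral group -/
def d (p q r : Bool) : MulAut V6 := act ⟨𝟘, 𝟘, 𝟘, 𝟘, p, q, 𝟘, r, 𝟘, 𝟘⟩

theorem d_apply (p q r : Bool) (v : V6) : d p q r v = A p q r v := act_eq _ v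

theorem d1 : ∀ p q r, d p q r * d p q r = 1 → ∃ a b, Adm a b ∧ ∀ v, d p q r v = S a b v := by
  simp only [MulEquiv.ext_iff, MulAut.mul_apply, MulAut.one_apply, d_apply]
  decide +kernel

theorem d2 : ∀ a b, Adm a b →
    (∃ n ∈ L0, (n.1 = a ∨ n.1 = b ∨ n.1 = a * b) ∧ ∀ v, S a b v = T n v) ∨
    (∃ n ∈ L1, (n.1 = a ∨ n.1 = b ∨ n.1 = a * b) ∧ ∀ v, S a b v = T n v) ∨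
    ((∀ v, U0 (S a b v) = U0 v) ∧ ∀ v, U1 (S a b v) = U1 v) ∨
    (∀ q r, ∀ v ∈ B, S a b (d 𝟘 q r v) = d 𝟘 q r (S a b v)) ∨
    ∃ q r, (∀ v ∈ B, S a b (d 𝟘 q r v) = d 𝟘 q r (S a b v)) ∧
      ∃ v, qf (v * S a b (d 𝟘 q r v)) = true := by
  simp only [d_apply]
  decide +kernel

theorem d3 : ∀ n ∈ L0, ∀ m ∈ L1,
    (∀ v ∈ [⟨𝟙, 𝟘, 𝟘, 𝟘, 𝟙, 𝟘⟩, ⟨𝟘, 𝟙, 𝟘, 𝟙, 𝟘, 𝟘⟩, ⟨𝟘, 𝟘, 𝟙, 𝟘, 𝟘, 𝟘⟩],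
      U1 (T n (T m (T n v))) = U1 v) → (∀ v ∈ B.take 3, U0 (T m (T n (T m v))) = U0 v) →
    ∀ v ∈ B, T n (T m v) = T m (T n v) := by decide +kernel

theorem d4 : (∀ n ∈ L0, ∀ v, U0 (T n v) = U0 v) ∧ (∀ n ∈ L1, ∀ v, U1 (T n v) = U1 v) ∧
    ∀ p q r, (∀ v, U0 (A p q r v) = U0 v) ∧ ∀ v, U1 (A p q r v) = U1 v := by decide +kernel

theorem d5 {a b : V6} (h : Adm a b) (v : V6) : qf (v * S a b v) = false := by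
  have k : ∀ w, v * (v * w) = w := fun w => by rw [← mul_assoc, V6.sq, one_mul]
  have e := bf_eq a b
  rw [h.1, h.2.1, h.2.2] at e
  unfold S
  cases bf v b <;> cases bf v a
  · exact (congrArg qf (V6.sq v)).trans rfl
  · exact (congrArg qf (k b)).trans h.2.1
  · exact (congrArg qf (k a)).trans h.1
  · change qf (v * (v * a * b)) = false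
    rw [mul_assoc, k]
    revert e
    cases qf (a * b) <;> decide

/-- three commuting elements lie in a four-group -/
def Four (x y z : MulAut V6) : Prop := x * y = y * x → x * z = z * x → y * z = z * y → y * y = 1 →
  z * z = 1 → y ≠ 1 → z ≠ 1 → y ≠ z → x = 1 ∨ x = y ∨ x = z ∨ x = y * z

theorem d6 : ∀ p q r p' q' r' p'' q'' r'', Four (d p q r) (d p' q' r') (d p'' q'' r'') := by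
  simp only [Four, ne_eq, MulEquiv.ext_iff, MulAut.mul_apply, MulAut.one_apply, d_apply]
  decide +kernel

theorem d7 : (∀ q r, d 𝟘 q r * d 𝟘 q r = 1) ∧ d 𝟘 𝟘 𝟙 * d 𝟘 𝟙 𝟘 = d 𝟘 𝟙 𝟘 * d 𝟘 𝟘 𝟙 ∧
    d 𝟘 𝟘 𝟙 ≠ 1 ∧ d 𝟘 𝟙 𝟘 ≠ 1 ∧ d 𝟘 𝟘 𝟙 ≠ d 𝟘 𝟙 𝟘 := by
  simp only [ne_eq, MulEquiv.ext_iff, MulAut.mul_apply, MulAut.one_apply, d_apply]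
  decide +kernel

/-- the stabiliser of a function -/
def St (U : V6 → Bool) : Subgroup (MulAut V6) where
  carrier := {g | ∀ v, U (g v) = U v}
  one_mem' _ := rfl
  mul_mem' ha hb v := (ha _).trans (hb v)
  inv_mem' {g} h v := (h _).symm.trans (congrArg U (g.apply_symm_apply v))

instance instFinAut : Finite (MulAut V6) := Finite.of_injective _ DFunLike.coe_injective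

theorem into (h : OG Γ) {X : Subgroup (MulAut V6)} (hX : X ≤ Γ) (hp : IsPi {2} X) :
    ∃ k ∈ Γ, ∀ x ∈ X, ∃ p q r, MulAut.conj k x = d p q r := by
  obtain ⟨k, hk, e⟩ := sylowOf_subJ h.syl hX hp
  refine ⟨k, hk, fun x hx => ?_⟩
  obtain ⟨t, ht⟩ := e (conj_mem_cj.2 hx)
  exact ⟨_, _, _, ht.symm.trans (MulEquiv.ext fun v => (act_eq t v).trans (d_apply ..).symm)⟩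

theorem pi2 {g : MulAut V6} (hg : g * g = 1) : IsPi {2} (zpowers g) := fun p hp hd => by
  rw [Nat.card_zpowers] at hd
  exact (Nat.prime_dvd_prime_iff_eq hp Nat.prime_two).1
    (hd.trans (orderOf_dvd_of_pow_eq_one (by rwa [pow_two])))

theorem sieg (h : OG Γ) {g : MulAut V6} (hg : g ∈ Γ) (h2 : g * g = 1) :
    ∃ a b, Adm a b ∧ ∀ v, g v = S a b v := by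
  obtain ⟨k, hk, e⟩ := into h (zpowers_le.2 hg) (pi2 h2)
  obtain ⟨p, q, r, e⟩ := e g (mem_zpowers g)
  obtain ⟨a, b, hab, e'⟩ := d1 p q r (by rw [← e, ← map_mul, h2, map_one])
  have hq := h.q _ (inv_mem hk)
  have hb : ∀ v w, bf (k⁻¹ v) (k⁻¹ w) = bf v w := fun v w => by
    rw [bf_eq, bf_eq, ← map_mul, hq, hq, hq]
  refine ⟨k⁻¹ a, k⁻¹ b, ⟨(hq a).trans hab.1, (hq b).trans hab.2.1, (hb a b).trans hab.2.2⟩,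
    fun v => ?_⟩
  obtain ⟨w, rfl⟩ := (k⁻¹).surjective v
  have : g (k⁻¹ w) = k⁻¹ (S a b w) := by rw [← e', ← e]; simp
  rw [this, S, S, hb, hb]
  cases bf w b <;> cases bf w a
  · rfl
  · exact map_mul k⁻¹ w b
  · exact map_mul k⁻¹ w a
  · exact (map_mul k⁻¹ (w * a) b).trans (congrArg (· * k⁻¹ b) (map_mul k⁻¹ w a))

theorem key (h : OG Γ) {g : MulAut V6} (hg : g ∈ Γ) (h2 : g * g = 1) :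
    (∃ n ∈ L0, ∀ v, g v = T n v) ∨ (∃ n ∈ L1, ∀ v, g v = T n v) ∨ (g ∈ St U0 ∧ g ∈ St U1) := by
  obtain ⟨a, b, hab, e⟩ := sieg h hg h2
  have hd : ∀ p q r, d p q r ∈ Γ := fun p q r => h.syl.le ⟨_, rfl⟩
  have := d2 a b hab
  simp only [← e, ← MulAut.mul_apply] at this
  rcases this with ⟨n, hn, -, k⟩ | ⟨n, hn, -, k⟩ | k | k | ⟨q, r, k, v, hv⟩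
  · exact Or.inl ⟨n, hn, k⟩
  · exact Or.inr (Or.inl ⟨n, hn, k⟩)
  · exact Or.inr (Or.inr k)
  · have c : ∀ {x y : MulAut V6}, x * y = y * x → zpowers x ≤ 𝒩(zpowers y) := fun e =>
      norm_of_cent (zpowers_le.2 (by rw [cent_zpowers]; exact mem_cent1.2 e))
    obtain ⟨k1, k2, k3, k4, k5⟩ := d7
    obtain ⟨l, -, e⟩ := into h (X := zpowers g ⊔ (zpowers (d 𝟘 𝟘 𝟙) ⊔ zpowers (d 𝟘 𝟙 𝟘)))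
      (sup_le (zpowers_le.2 hg) (sup_le (zpowers_le.2 (hd ..)) (zpowers_le.2 (hd ..))))
      ((pi2 h2).sup ((pi2 (k1 ..)).sup (pi2 (k1 ..)) (Or.inl (c k2)))
        (Or.inl (norm_sup (c (ext6 (k _ _))) (c (ext6 (k _ _))))))
    obtain ⟨p, q, r, e1⟩ := e g (mem_sup_left (mem_zpowers _))
    obtain ⟨p', q', r', e2⟩ := e _ (mem_sup_right (mem_sup_left (mem_zpowers _)))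
    obtain ⟨p'', q'', r'', e3⟩ := e _ (mem_sup_right (mem_sup_right (mem_zpowers _)))
    have := d6 p q r p' q' r' p'' q'' r''
    simp only [← e1, ← e2, ← e3, Four, ← map_mul, ne_eq, EmbeddingLike.apply_eq_iff_eq,
      EmbeddingLike.map_eq_one_iff] at this
    have s : ∀ p q r, d p q r ∈ St U0 ⊓ St U1 := fun p q r =>
      ⟨fun v => (d_apply ..).symm ▸ (d4.2.2 p q r).1 v, fun v => (d_apply ..).symm ▸ (d4.2.2 p q r).2 v⟩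
    refine Or.inr (Or.inr (mem_inf.1 ?_))
    rcases this (ext6 (k _ _)) (ext6 (k _ _)) k2 (k1 ..) (k1 ..) k3 k4 k5 with rfl | rfl | rfl | rfl
    exacts [one_mem _, s .., s .., mul_mem (s ..) (s ..)]
  · obtain ⟨a, b, hab, e⟩ := sieg h (mul_mem hg (hd 𝟘 q r)) (by
      rw [mul_assoc, ← mul_assoc (d _ _ _), ← ext6 k, mul_assoc, d7.1, mul_one, h2])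
    rw [e, d5 hab] at hv
    exact absurd hv (by decide)

theorem all (h : OG Γ) :
    (∀ g ∈ Γ, g * g = 1 → g ∈ St U0) ∨ ∀ g ∈ Γ, g * g = 1 → g ∈ St U1 := by
  have s0 : ∀ {g : MulAut V6} {n}, n ∈ L0 → (∀ v, g v = T n v) → g ∈ St U0 := fun hn e v =>
    (e v).symm ▸ d4.1 _ hn v
  have s1 : ∀ {g : MulAut V6} {n}, n ∈ L1 → (∀ v, g v = T n v) → g ∈ St U1 := fun hn e v =>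
    (e v).symm ▸ d4.2.1 _ hn v
  have two : ∀ g ∈ Γ, g * g = 1 → g ∈ St U0 ∨ g ∈ St U1 := fun g hg h2 => by
    rcases key h hg h2 with ⟨n, hn, e⟩ | ⟨n, hn, e⟩ | k
    exacts [Or.inl (s0 hn e), Or.inr (s1 hn e), Or.inl k.1]
  by_contra! k
  obtain ⟨⟨y, hy, y2, y0⟩, x, hx, x2, x1⟩ := k
  obtain ⟨n, hn, ex⟩ : ∃ n ∈ L0, ∀ v, x v = T n v := (key h hx x2).resolve_right (by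
    rintro (⟨n, hn, e⟩ | k)
    exacts [x1 (s1 hn e), x1 k.2])
  obtain ⟨m, hm, ey⟩ : ∃ n ∈ L1, ∀ v, y v = T n v := ((key h hy y2).resolve_left (by
    rintro ⟨n, hn, e⟩
    exact y0 (s0 hn e))).resolve_right fun k => y0 k.1
  have x0 := s0 hn ex
  have y1 := s1 hm ey
  have c : ∀ {x y : MulAut V6}, x * x = 1 → y * y = 1 → x * (y * x) * (x * (y * x)) = 1 :=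
    fun {x y} hx hy => by
      rw [mul_assoc, mul_assoc, ← mul_assoc x x, hx, one_mul, ← mul_assoc y, hy, one_mul, hx]
  have k1 := (two _ (mul_mem hx (mul_mem hy hx)) (c x2 y2)).resolve_left fun k =>
    y0 ((mul_mem_cancel_right x0).1 ((mul_mem_cancel_left x0).1 k))
  have k2 := (two _ (mul_mem hy (mul_mem hx hy)) (c y2 x2)).resolve_right fun k =>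
    x1 ((mul_mem_cancel_right y1).1 ((mul_mem_cancel_left y1).1 k))
  have := d3 n hn m hm
  simp only [← ex, ← ey] at this
  have e : x * y = y * x := ext6 (this (fun v _ => k1 v) fun v _ => k2 v)
  rcases two _ (mul_mem hx hy) (by
    rw [mul_assoc, ← mul_assoc y, ← e, mul_assoc, y2, mul_one, x2]) with k | k
  exacts [y0 ((mul_mem_cancel_left x0).1 k), x1 ((mul_mem_cancel_right y1).1 k)]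

theorem gen (h : OG Γ) : Γ ≤ closure {g | g ∈ Γ ∧ g * g = 1} := by
  have hK : closure {g | g ∈ Γ ∧ g * g = 1} ≤ Γ := (closure_le _).2 fun g hg => hg.1
  have c : ∀ {t : U5}, t * t = 1 → act t ∈ closure {g | g ∈ Γ ∧ g * g = 1} := fun e =>
    subset_closure ⟨h.syl.le ⟨_, rfl⟩, by rw [← map_mul, e, map_one]⟩
  have hD : act.range ≤ closure {g | g ∈ Γ ∧ g * g = 1} := by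
    rintro _ ⟨t, rfl⟩
    exact gen_ind (p := fun t => act t ∈ closure {g | g ∈ Γ ∧ g * g = 1}) (c (one_mul 1))
      (fun a b ha hb => map_mul act a b ▸ mul_mem ha hb) (c (by decide)) (c (by decide))
      (c (by decide)) (c (by decide)) t
  have hn : Γ ≤ 𝒩(closure {g | g ∈ Γ ∧ g * g = 1}) := fun a ha => mem_norm_of_cj_le (by
    rw [cj_le_iff, closure_le]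
    exact fun g hg => mem_cj.2 (subset_closure ⟨mul_mem (mul_mem (inv_mem (inv_mem ha)) hg.1)
      (inv_mem ha), by rw [inv_inv, conj_mul, hg.2]; simp⟩))
  intro m hm
  obtain ⟨a, ha, b, hb, rfl⟩ := (frattini_arg hK hn (h.syl.sub hD hK)).2.2 m hm
  exact mul_mem ha (hD (h.norm_le hb))

end Red

open Red in
theorem OG.red (h : OG Γ) : Keep Γ V0 ∨ Keep Γ V1 := by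
  refine (all h).imp (fun k g hg a ha => ⟨sec (g (pr a)), ?_, rfl⟩)
    fun k g hg a ha => ⟨sec (g (pr a)), ?_, rfl⟩
  · exact (by decide +kernel : ∀ v, U0 v = true → sec v ∈ V0) _
      (((gen h).trans ((closure_le _).2 fun g hg => k g hg.1 hg.2) hg _).trans
        ((by decide +kernel : ∀ a ∈ V0, U0 (pr a) = true) a ha))
  · exact (by decide +kernel : ∀ v, U1 v = true → sec v ∈ V1) _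
      (((gen h).trans ((closure_le _).2 fun g hg => k g hg.1 hg.2) hg _).trans
        ((by decide +kernel : ∀ a ∈ V1, U1 (pr a) = true) a ha))

end Cfsg.Agent.UT5
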