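/-
The orthogonal space of dimension six over the field with two elements on which the unitriangular
group acts.
-/
import Cfsg.Agent.UT5.Model
import Cfsg.Agent.H49.SylowOf

set_option autoImplicit false

noncomputable section

namespace Cfsg.Agent.UT5

open Subgroup U5 Cfsg.Agent.H49

/-- the quotient of `E0` by its centre -/
@[ext] structure V6 where
  b12 : Bool
  b13 : Bool
  b14 : Bool
  b25 : Bool
  b35 : Bool
  b45 : Bool

namespace V6

/-- equality test -/
def beq (a b : V6) : Bool := ba (be a.b12 b.b12) (ba (be a.b13 b.b13) (ba (be a.b14 b.b14)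
  (ba (be a.b25 b.b25) (ba (be a.b35 b.b35) (be a.b45 b.b45)))))

theorem beq_iff (a b : V6) : beq a b = true ↔ a = b := by
  simp only [beq, ba_eq, be_iff, Bool.and_eq_true, V6.ext_iff]

instance instDecEq : DecidableEq V6 := fun a b => decidable_of_iff _ (beq_iff a b)

instance instDecAll (p : V6 → Prop) [DecidablePred p] : Decidable (∀ a, p a) :=
  decidable_of_iff ((al fun a => al fun b => al fun c => al fun d => al fun e => al fun f =>
    decide (p ⟨a, b, c, d, e, f⟩)) = true)
    (by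
      simp only [al_iff, decide_eq_true_iff]
      exact ⟨fun h _ => h .., fun h _ _ _ _ _ _ => h _⟩)

instance instDecEx (p : V6 → Prop) [DecidablePred p] : Decidable (∃ a, p a) :=
  decidable_of_iff ((ex fun a => ex fun b => ex fun c => ex fun d => ex fun e => ex fun f =>
    decide (p ⟨a, b, c, d, e, f⟩)) = true)
    (by
      simp only [ex_iff, decide_eq_true_iff]
      exact ⟨fun ⟨_, _, _, _, _, _, h⟩ => ⟨_, h⟩, fun ⟨_, h⟩ => ⟨_, _, _, _, _, _, h⟩⟩)

instance instMul : Mul V6 := ⟨fun a b =>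
  @V6.rec (fun _ => V6) (fun a12 a13 a14 a25 a35 a45 =>
  @V6.rec (fun _ => V6) (fun b12 b13 b14 b25 b35 b45 =>
  ⟨bx a12 b12, bx a13 b13, bx a14 b14, bx a25 b25, bx a35 b35, bx a45 b45⟩) b) a⟩

instance instOne : One V6 := ⟨⟨false, false, false, false, false, false⟩⟩

instance instInv : Inv V6 := ⟨fun a => a⟩

theorem mul_def (a b : V6) : a * b = ⟨a.b12 ^^ b.b12, a.b13 ^^ b.b13, a.b14 ^^ b.b14,
    a.b25 ^^ b.b25, a.b35 ^^ b.b35, a.b45 ^^ b.b45⟩ := by
  simp only [← bx_eq]; rfl

instance instCommGroup : CommGroup V6 where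
  __ := Group.ofLeftAxioms (G := V6) (fun a b c => by simp [mul_def]) (by decide +kernel)
    (by decide +kernel)
  mul_comm a b := by simp [mul_def, Bool.xor_comm]

theorem inv_eq (a : V6) : a⁻¹ = a := rfl

theorem sq : ∀ a : V6, a * a = 1 := by decide +kernel

instance instFinite : Finite V6 :=
  Finite.of_injective (fun a : V6 => (a.b12, a.b13, a.b14, a.b25, a.b35, a.b45)) fun a b h => by
    simpa [V6.ext_iff] using h

end V6

/-- the projection (a homomorphism on `E0`, with kernel the centre) -/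
def pr (a : U5) : V6 := ⟨a.a12, a.a13, a.a14, a.a25, a.a35, a.a45⟩

/-- a section of the projection -/
def sec (v : V6) : U5 := ⟨v.b12, v.b13, v.b14, false, false, false, v.b25, false, v.b35, v.b45⟩

/-- the quadratic form -/
def qf (v : V6) : Bool := bx (bx (ba v.b12 v.b25) (ba v.b13 v.b35)) (ba v.b14 v.b45)

/-- the bilinear form -/
def bf (v w : V6) : Bool := bx (bx (bx (ba v.b12 w.b25) (ba v.b13 w.b35)) (ba v.b14 w.b45))
  (bx (bx (ba w.b12 v.b25) (ba w.b13 v.b35)) (ba w.b14 v.b45))

theorem bf_eq : ∀ v w, bf v w = bx (qf (v * w)) (bx (qf v) (qf w)) := by decide +kernel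

theorem sec_mem (v : V6) : sec v ∈ E0 := ⟨rfl, rfl, rfl⟩

theorem pr_sec (v : V6) : pr (sec v) = v := rfl

theorem pr_mul {a b : U5} (ha : a ∈ E0) (hb : b ∈ E0) : pr (a * b) = pr a * pr b := by
  obtain ⟨h1, h2, h3⟩ := ha
  obtain ⟨k1, k2, k3⟩ := hb
  simp [pr, U5.mul_def, V6.mul_def, *]

theorem sec_pr : ∀ a ∈ E0, a = sec (pr a) ∨ a = z0 * sec (pr a) := by decide +kernel

theorem pr_z : ∀ a : U5, pr (z0 * a) = pr a := by decide +kernel

theorem qf_pr : ∀ a ∈ E0, qf (pr a) = false ↔ a * a = 1 := by decide +kernel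

theorem z_mem : z0 ∈ E0 := by decide

/-- an action on `E0` that fixes the centre -/
structure EAct (K : Type*) [Group K] where
  /-- the action -/
  f : K → U5 → U5
  mem : ∀ k, ∀ a ∈ E0, f k a ∈ E0
  mul : ∀ k, ∀ a ∈ E0, ∀ b ∈ E0, f k (a * b) = f k a * f k b
  z : ∀ k, f k z0 = z0
  one : ∀ a ∈ E0, f 1 a = a
  comp : ∀ k l, ∀ a ∈ E0, f (k * l) a = f k (f l a)

namespace EAct

variable {K : Type*} [Group K] (α : EAct K)

theorem pr_sec_pr (k : K) {a : U5} (ha : a ∈ E0) : pr (α.f k (sec (pr a))) = pr (α.f k a) := by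
  rcases sec_pr a ha with h | h
  · rw [← h]
  · conv_rhs => rw [h, α.mul k _ z_mem _ (sec_mem _), α.z, pr_z]

/-- the induced action on the quotient -/
@[reducible] def mda : MulDistribMulAction K V6 where
  smul k v := pr (α.f k (sec v))
  one_smul v := congrArg pr (α.one _ (sec_mem v))
  mul_smul k l v := (congrArg pr (α.comp k l _ (sec_mem v))).trans
    (α.pr_sec_pr k (α.mem l _ (sec_mem v))).symm
  smul_mul k v w := by
    change pr (α.f k (sec (pr (sec v) * pr (sec w)))) = pr (α.f k (sec v)) * pr (α.f k (sec w))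
    rw [← pr_mul (sec_mem v) (sec_mem w), α.pr_sec_pr k (mul_mem (sec_mem v) (sec_mem w)),
      α.mul k _ (sec_mem v) _ (sec_mem w), pr_mul (α.mem k _ (sec_mem v)) (α.mem k _ (sec_mem w))]
  smul_one k := by
    have h := α.mul k _ (one_mem E0) _ (one_mem E0)
    rw [one_mul, left_eq_mul] at h
    exact congrArg pr h

/-- the representation on the quotient -/
def rho : K →* MulAut V6 := @MulDistribMulAction.toMulAut K V6 _ _ α.mda

theorem rho_apply (k : K) (v : V6) : α.rho k v = pr (α.f k (sec v)) := rfl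

theorem rho_pr (k : K) {a : U5} (ha : a ∈ E0) : α.rho k (pr a) = pr (α.f k a) := α.pr_sec_pr k ha

theorem qf_rho (k : K) (v : V6) : qf (α.rho k v) = qf v := by
  have h := sec_mem v
  have h1 := α.mul k _ (one_mem E0) _ (one_mem E0)
  rw [one_mul, left_eq_mul] at h1
  have h2 := (by decide +kernel : ∀ a ∈ E0, (qf (pr a) = false ∧ a * a = 1) ∨
    (qf (pr a) = true ∧ a * a = z0))
  rw [rho_apply, ← pr_sec v, pr_sec]
  rcases h2 _ h with ⟨k1, k2⟩ | ⟨k1, k2⟩ <;> rcases h2 _ (α.mem k _ h) with ⟨k3, k4⟩ | ⟨k3, k4⟩ <;>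
    rw [← α.mul k _ h _ h, k2] at k4
  · exact k3.trans k1.symm
  · exact absurd (k4.symm.trans h1) z_ne
  · exact absurd ((α.z k).symm.trans k4) z_ne
  · exact k3.trans k1.symm

end EAct

/-- conjugation -/
def cjA : EAct U5 where
  f t a := t * a * t⁻¹
  mem t a ha := instNormE0.conj_mem a ha t
  mul t a _ b _ := by group
  z t := by rw [z_comm, mul_inv_cancel_right]
  one a _ := by simp
  comp t s a _ := by group

/-- the action of the unitriangular group -/
def act : U5 →* MulAut V6 := cjA.rho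

theorem act_apply (t : U5) (v : V6) : act t v = pr (t * sec v * t⁻¹) := rfl

/-- a group of isometries with the dihedral Sylow 2-subgroup -/
structure OG (Γ : Subgroup (MulAut V6)) : Prop where
  q : ∀ g ∈ Γ, ∀ v, qf (g v) = qf v
  syl : IsSylowOf 2 act.range Γ

/-- the group keeps the image of the subgroup `V` -/
def Keep (Γ : Subgroup (MulAut V6)) (V : Subgroup U5) : Prop :=
  ∀ g ∈ Γ, ∀ a ∈ V, ∃ b ∈ V, g (pr a) = pr b

end Cfsg.Agent.UT5
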