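/-
Groups of isometries of the six dimensional orthogonal space with a dihedral Sylow subgroup.
-/
import Cfsg.Agent.UT5.Six

set_option autoImplicit false

noncomputable section

namespace Cfsg.Agent.UT5

open Cfsg.Agent.H49 Subgroup

namespace Orth

instance instDecAut : DecidableEq (MulAut V6) := fun g h =>
  decidable_of_iff (∀ v, g v = h v) ⟨fun e => MulEquiv.ext e, fun e _ => e ▸ rfl⟩

/-- representatives modulo the kernel -/
def dd (a b c : Bool) : U5 := ⟨false, false, false, false, a, b, false, c, false, false⟩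

theorem act_red (t : U5) : act t = act (dd t.a23 t.a24 t.a34) := by
  have h1 : ∀ t : U5, t * (dd t.a23 t.a24 t.a34)⁻¹ ∈ E0 := by decide +kernel
  have h2 : ∀ a ∈ E0, act a = 1 := by decide +kernel
  rw [← mul_inv_eq_one, ← map_inv, ← map_mul, h2 _ (h1 t)]

theorem mem_D {d : MulAut V6} (h : d ∈ act.range) : ∃ a b c, d = act (dd a b c) :=
  let ⟨t, e⟩ := h; ⟨_, _, _, e.symm.trans (act_red t)⟩

theorem bf_map {g : MulAut V6} (h : ∀ v, qf (g v) = qf v) (v w : V6) : bf (g v) (g w) = bf v w := by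
  rw [bf_eq, bf_eq, ← map_mul, h, h, h]

/-- expansion on the orthogonal complement of `L` -/
def FF (a b w : V6) : V6 := (bif w.b13 then a else 1) * (bif w.b14 then pr x14 else 1) *
  (bif w.b25 then pr x25 else 1) * (bif w.b35 then b else 1)

theorem fix_L {g : MulAut V6} (h1 : g (pr x14) = pr x14) (h2 : g (pr x25) = pr x25) {v : V6}
    (h : v = 1 ∨ v = pr x14 ∨ v = pr x25 ∨ v = pr x14 * pr x25) : g v = v := by
  rcases h with rfl | rfl | rfl | rfl
  exacts [map_one g, h1, h2, by rw [map_mul, h1, h2]]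

theorem pow_eight {g : MulAut V6} (h : ∀ v, qf (g v) = qf v) (h1 : g (pr x14) = pr x14)
    (h2 : g (pr x25) = pr x25) : g ^ 8 = 1 := by
  have b1 : ∀ v, bf (pr x14) v = v.b45 ∧ bf (pr x25) v = v.b12 := by decide +kernel
  have a : ∀ v, (g v).b12 = v.b12 ∧ (g v).b45 = v.b45 := fun v =>
    ⟨by rw [← (b1 _).2, ← (b1 v).2, ← bf_map h _ v, h2], by rw [← (b1 _).1, ← (b1 v).1, ← bf_map h _ v, h1]⟩
  have ex : ∀ w : V6, w.b12 = false → w.b45 = false → w = FF (pr x13) (pr x35) w := by decide +kernel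
  have ex' : ∀ w : V6, w.b12 = false → w.b45 = false → g w = FF (g (pr x13)) (g (pr x35)) w := fun w k1 k2 => by
    conv_lhs => rw [ex w k1 k2]
    simp only [FF, map_mul, Bool.apply_cond g, map_one, h1, h2]
  have key : ∀ a b : V6, a.b12 = false → a.b45 = false → b.b12 = false → b.b45 = false → qf a = false →
      qf b = false → bf a b = true → (∀ w, (FF a b w).b13 = w.b13 ∧ (FF a b w).b35 = w.b35) ∨
        ∀ w, (FF a b w).b13 = w.b35 ∧ (FF a b w).b35 = w.b13 := by decide +kernel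
  have c : ∀ w : V6, w.b12 = false → w.b45 = false → (g (g w)).b13 = w.b13 ∧ (g (g w)).b35 = w.b35 := by
    intro w k1 k2
    have e1 := ex' w k1 k2
    have e2 := ex' (g w) ((a w).1.trans k1) ((a w).2.trans k2)
    rcases key _ _ (a _).1 (a _).2 (a _).1 (a _).2 (h _) (h _) (bf_map h (pr x13) (pr x35)) with k | k
    · rw [e2, (k _).1, (k _).2, e1]; exact k w
    · rw [e2, (k _).1, (k _).2, e1]; exact (k w).symm
  have d1 : ∀ v w : V6, w.b12 = v.b12 → w.b45 = v.b45 → (v * w).b12 = false ∧ (v * w).b45 = false := by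
    decide +kernel
  have d2 : ∀ v w : V6, w.b12 = v.b12 → w.b45 = v.b45 → w.b13 = v.b13 → w.b35 = v.b35 →
      v * w = 1 ∨ v * w = pr x14 ∨ v * w = pr x25 ∨ v * w = pr x14 * pr x25 := by decide +kernel
  have a2 : ∀ v, (g (g v)).b12 = v.b12 ∧ (g (g v)).b45 = v.b45 := fun v =>
    ⟨(a _).1.trans (a _).1, (a _).2.trans (a _).2⟩
  refine MulEquiv.ext fun v => ?_
  have k := d1 v _ (a2 v).1 (a2 v).2
  have k' := fix_L h1 h2 (d2 _ _ (a2 _).1 (a2 _).2 (c _ k.1 k.2).1 (c _ k.1 k.2).2)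
  have e : g (g (g (g v))) = v * (v * g (g v) * g (g (v * g (g v)))) := by
    rw [map_mul, map_mul, ← mul_assoc, ← mul_assoc, ← mul_assoc, V6.sq, one_mul, V6.sq, one_mul]
  change g (g (g (g (g (g (g (g v))))))) = v
  generalize v * g (g v) * g (g (v * g (g v))) = l at k' e
  rw [e, map_mul, map_mul, map_mul, map_mul, k', k', k', k', e, mul_assoc, V6.sq, mul_one]

/-- the vectors that are commutators with a non-central involution -/
def PP (u : V6) : Prop :=
  ∃ d ∈ act.range, d * d = 1 ∧ (∃ d' ∈ act.range, d * d' ≠ d' * d) ∧ ∃ v, v * d v = u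

theorem PP.map {u : V6} (h : PP u) {k : MulAut V6} (hk : k ∈ 𝒩(act.range)) : PP (k u) := by
  obtain ⟨d, hd, h1, ⟨d', hd', h2⟩, v, rfl⟩ := h
  refine ⟨_, (mem_normalizer_iff.1 hk d).1 hd, by rw [conj_mul, h1]; group,
    ⟨_, (mem_normalizer_iff.1 hk d').1 hd', fun e => h2 ?_⟩, k v, by simp⟩
  rw [conj_mul, conj_mul] at e
  simpa using e

theorem not_PP : ¬ PP (pr x14 * pr x25) := by
  rintro ⟨d, hd, h1, ⟨d', hd', h2⟩, v, h3⟩
  obtain ⟨a, b, c, rfl⟩ := mem_D hd
  obtain ⟨a', b', c', rfl⟩ := mem_D hd'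
  revert a b c a' b' c' v
  decide +kernel

theorem le_norm_map (R : Subgroup U5) [hR : R.Normal] : act.range ≤ 𝒩(R.map act) :=
  le_norm_iff.2 (by
    rintro _ ⟨t, rfl⟩ _ ⟨r, hr, rfl⟩
    exact ⟨_, hR.conj_mem r hr t, by simp⟩)

end Orth

open Orth

variable {Γ : Subgroup (MulAut V6)}

theorem OG.le_D (h : OG Γ) {P : Subgroup (MulAut V6)} (hP : P ≤ Γ) (h2 : IsPGroup 2 P)
    (hn : P ≤ 𝒩(act.range) ∨ act.range ≤ 𝒩(P)) : P ≤ act.range :=
  h.syl.le_of_norm hP (isPi_of_isPGroup Nat.prime_two h2) hn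

/-- the Sylow 2-subgroup is self-normalizing -/
theorem OG.norm_le (h : OG Γ) : Γ ⊓ 𝒩(act.range) ≤ act.range := by
  rintro k ⟨hk, hn⟩
  have fx : ∀ v, act x23 v = v → act x34 v = v → v = 1 ∨ v = pr x14 ∨ v = pr x25 ∨ v = pr x14 * pr x25 := by
    decide +kernel
  have f1 : ∀ a b c, act (dd a b c) (pr x14) = pr x14 ∧ act (dd a b c) (pr x25) = pr x25 := by decide +kernel
  have key : ∀ u, u ≠ 1 → PP u → (∀ a b c, act (dd a b c) u = u) → k u = pr x14 ∨ k u = pr x25 := by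
    intro u u1 hu hf
    have : ∀ t, act t (k u) = k u := fun t => by
      obtain ⟨a, b, c, e⟩ := mem_D ((mem_normalizer_iff.1 (inv_mem hn) _).1 ⟨t, rfl⟩)
      have := hf a b c
      rw [← e] at this
      simpa [MulEquiv.symm_apply_eq] using this
    rcases fx _ (this _) (this _) with e | e | e | e
    · exact absurd (k.map_eq_one_iff.1 e) u1
    · exact Or.inl e
    · exact Or.inr e
    · exact absurd (e ▸ hu.map hn) not_PP
  have k1 := key (pr x14) (by decide) ⟨_, ⟨x34, rfl⟩, by decide +kernel, ⟨_, ⟨x23, rfl⟩, by decide +kernel⟩,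
    pr x13, by decide +kernel⟩ fun a b c => (f1 a b c).1
  have k2 := key (pr x25) (by decide) ⟨_, ⟨x23, rfl⟩, by decide +kernel, ⟨_, ⟨x34, rfl⟩, by decide +kernel⟩,
    pr x35, by decide +kernel⟩ fun a b c => (f1 a b c).2
  have ne : k (pr x14) ≠ k (pr x25) := k.injective.ne (by decide)
  have e : (k * k) ^ 8 = 1 := by
    refine pow_eight (h.q _ (mul_mem hk hk)) ?_ ?_ <;> rw [MulAut.mul_apply] <;> rcases k1 with k1 | k1 <;>
      rcases k2 with k2 | k2 <;> simp_all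
  refine h.le_D (P := zpowers k) (zpowers_le.2 hk) ?_ (Or.inl (zpowers_le.2 hn)) (mem_zpowers k)
  rintro ⟨_, n, rfl⟩
  refine ⟨4, Subtype.ext ?_⟩
  change (k ^ n) ^ 2 ^ 4 = 1
  rw [← pow_two, ← pow_mul] at e
  rw [← zpow_natCast, ← zpow_mul, mul_comm, zpow_mul, zpow_natCast, show 2 ^ 4 = 2 * 8 from rfl, e, one_zpow]

theorem OG.tri (h : OG Γ) : Γ ≤ 𝒩(R1.map act) ∨ Γ ≤ 𝒩(R2.map act) ∨
    ∀ P ≤ Γ, IsPGroup 2 P → Γ ≤ 𝒩(P) → P = ⊥ := by
  by_contra hno
  push Not at hno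
  obtain ⟨n1, n2, P, hP, h2, hn, hb⟩ := hno
  have DΓ : act.range ≤ Γ := h.syl.le
  have PD := h.le_D hP h2 (Or.inr (DΓ.trans hn))
  have nD : ¬ Γ ≤ 𝒩(act.range) := fun e => n1 (((le_inf le_rfl e).trans h.norm_le).trans (le_norm_map R1))
  have s24 : act x24 ∈ P := by
    obtain ⟨d, hd, d1⟩ := (bot_or_exists_ne_one P).resolve_left hb
    obtain ⟨a, b, c, rfl⟩ := mem_D (PD hd)
    have cm : ∀ t, act t * act (dd a b c) * (act t)⁻¹ * act (dd a b c) ∈ P := fun t =>
      mul_mem (conj_mem_of_norm hn (DΓ ⟨t, rfl⟩) hd) hd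
    rcases (by decide +kernel : ∀ a b c, act (dd a b c) = 1 ∨ act (dd a b c) = act x24 ∨
      act (dd a b c) * act (dd a b c) = act x24 ∨
      act x23 * act (dd a b c) * (act x23)⁻¹ * act (dd a b c) = act x24 ∨
      act x34 * act (dd a b c) * (act x34)⁻¹ * act (dd a b c) = act x24) a b c with e | e | e | e | e
    exacts [absurd e d1, e ▸ hd, e ▸ mul_mem hd hd, e ▸ cm _, e ▸ cm _]
  have dec : ∀ a b c, dd a b c = (bif b then x24 else 1) * (bif c then x34 else 1) * (bif a then x23 else 1) := by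
    decide +kernel
  have cnd : ∀ (b : Bool) {t}, act t ∈ P → act (bif b then t else 1) ∈ P := fun b t ht => by
    cases b
    exacts [by simp, ht]
  by_cases s23 : act x23 ∈ P <;> by_cases s34 : act x34 ∈ P
  · refine nD (le_antisymm PD (fun d hd => ?_) ▸ hn)
    obtain ⟨a, b, c, rfl⟩ := mem_D hd
    rw [dec, map_mul, map_mul]
    exact mul_mem (mul_mem (cnd _ s24) (cnd _ s34)) (cnd _ s23)
  · refine n1 ((le_antisymm (fun d hd => ?_) ?_ : P = R1.map act) ▸ hn)
    · obtain ⟨a, b, c, rfl⟩ := mem_D (PD hd)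
      cases c
      · exact ⟨_, ⟨rfl, rfl, rfl, rfl⟩, rfl⟩
      · rw [dec, map_mul, map_mul, mul_mem_cancel_right (cnd _ s23), mul_mem_cancel_left (cnd _ s24)] at hd
        exact absurd hd s34
    · rintro _ ⟨r, hr, rfl⟩
      rw [act_red, hr.2.1, dec, map_mul, map_mul]
      exact mul_mem (mul_mem (cnd _ s24) (by simp)) (cnd _ s23)
  · refine n2 ((le_antisymm (fun d hd => ?_) ?_ : P = R2.map act) ▸ hn)
    · obtain ⟨a, b, c, rfl⟩ := mem_D (PD hd)
      cases a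
      · exact ⟨_, ⟨rfl, rfl, rfl, rfl⟩, rfl⟩
      · rw [dec, map_mul, map_mul, mul_mem_cancel_left (mul_mem (cnd _ s24) (cnd _ s34))] at hd
        exact absurd hd s23
    · rintro _ ⟨r, hr, rfl⟩
      rw [act_red, hr.2.2.1, dec, map_mul, map_mul]
      exact mul_mem (mul_mem (cnd _ s24) (cnd _ s34)) (by simp)
  have inv : ∀ d ∈ P, d * d = 1 → d = 1 ∨ d = act x24 := fun d hd d2 => by
    obtain ⟨a, b, c, rfl⟩ := mem_D (PD hd)
    rcases (by decide +kernel : ∀ a b c, act (dd a b c) * act (dd a b c) = 1 → (act (dd a b c) = 1 ∨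
      act (dd a b c) = act x24) ∨ act (dd a b c) = act x23 ∨ act (dd a b c) * act x24 = act x23 ∨
      act (dd a b c) = act x34 ∨ act (dd a b c) * act x24 = act x34) a b c d2 with e | e | e | e | e
    exacts [e, absurd (e ▸ hd) s23, absurd (e ▸ mul_mem hd s24) s23, absurd (e ▸ hd) s34,
      absurd (e ▸ mul_mem hd s24) s34]
  have cen : ∀ k ∈ Γ, ∀ v, k (act x24 v) = act x24 (k v) := fun k hk v => by
    have e := (inv _ (conj_mem_of_norm hn hk s24) (by
      rw [conj_mul, (by decide +kernel : act x24 * act x24 = 1)]; group)).resolve_left fun e =>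
        absurd (conj_eq_one_iff.1 e) (by decide +kernel)
    exact DFunLike.congr_fun (mul_inv_eq_iff_eq_mul.1 e) v
  have L : ∀ v, v * act x24 v = 1 ∨ v * act x24 v = pr x14 ∨ v * act x24 v = pr x25 ∨
      v * act x24 v = pr x14 * pr x25 := by decide +kernel
  let C : Subgroup (MulAut V6) := Γ ⊓ (MulAction.stabilizer _ (pr x14) ⊓ MulAction.stabilizer _ (pr x25))
  have DC : act.range ≤ C := fun d hd => ⟨DΓ hd, by
    obtain ⟨a, b, c, rfl⟩ := mem_D hd
    exact (by decide +kernel : ∀ a b c, act (dd a b c) (pr x14) = pr x14 ∧ act (dd a b c) (pr x25) = pr x25) a b c⟩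
  have CD : C ≤ act.range := h.le_D inf_le_left
    (fun g => ⟨3, Subtype.ext (pow_eight (h.q _ g.2.1) g.2.2.1 g.2.2.2)⟩) (Or.inr (norm_of_le DC))
  refine nD (le_norm_iff.2 fun k hk d hd => CD ⟨Γ.mul_mem (Γ.mul_mem hk (DΓ hd)) (Γ.inv_mem hk), ?_⟩)
  have f : ∀ v, (k * d * k⁻¹) (v * act x24 v) = v * act x24 v := fun v => by
    rw [MulAut.mul_apply, MulAut.mul_apply, map_mul, cen _ (inv_mem hk), fix_L (DC hd).2.1 (DC hd).2.2 (L _),
      ← cen _ (inv_mem hk), ← map_mul]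
    simp
  have f1 := f (pr x12)
  have f2 := f (pr x45)
  rw [(by decide +kernel : pr x12 * act x24 (pr x12) = pr x14)] at f1
  rw [(by decide +kernel : pr x45 * act x24 (pr x45) = pr x25)] at f2
  exact ⟨f1, f2⟩

theorem OG.conj (h : OG Γ) (hV : Keep Γ V0)
    (hO : ∀ P ≤ Γ, IsPGroup 2 P → Γ ≤ 𝒩(P) → P = ⊥) : ∃ g ∈ Γ, g (pr x14) = pr x13 := by
  by_contra n1
  have DΓ : ∀ t, act t ∈ Γ := fun t => h.syl.le ⟨t, rfl⟩
  let Vb : V6 → Prop := fun v => v.b25 = false ∧ v.b35 = false ∧ v.b45 = false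
  have kp : ∀ g ∈ Γ, ∀ v, Vb v → Vb (g v) := fun g hg v hv => by
    obtain ⟨b, hb, e⟩ := hV g hg (sec v) ⟨rfl, rfl, rfl, hv⟩
    rw [pr_sec] at e
    rw [e]; exact hb.2.2.2
  have mv : ∀ k ∈ Γ, ∀ v, (∃ g ∈ Γ, g (pr x14) = v) → ∃ g ∈ Γ, g (pr x14) = k v := by
    rintro k hk _ ⟨g, hg, rfl⟩
    exact ⟨k * g, mul_mem hk hg, rfl⟩
  have n2 : ¬ ∃ g ∈ Γ, g (pr x14) = pr x13 * pr x14 := fun e => n1 (by
    simpa only [(by decide +kernel : act x34 (pr x13 * pr x14) = pr x13)] using mv _ (DΓ x34) _ e)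
  have cs : ∀ v : V6, v.b25 = false ∧ v.b35 = false ∧ v.b45 = false →
      v = 1 ∨ v = pr x14 ∨ (v = pr x13 ∨ v = pr x13 * pr x14) ∨ v.b12 = true := by decide +kernel
  have fx : ∀ g ∈ Γ, g (pr x14) = pr x14 := fun g hg => by
    rcases cs _ (kp g hg (pr x14) ⟨rfl, rfl, rfl⟩) with e | e | (e | e) | e
    · exact absurd (g.map_eq_one_iff.1 e) (by decide)
    · exact e
    · exact absurd ⟨g, hg, e⟩ n1
    · exact absurd ⟨g, hg, e⟩ n2
    have key : ∀ u, u ≠ 1 → Vb u → (¬ ∃ g ∈ Γ, g (pr x14) = u) →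
        g⁻¹ u = pr x13 ∨ g⁻¹ u = pr x13 * pr x14 := fun u u1 hu nu => by
      have m := kp _ (inv_mem hg) u hu
      have nu' : ¬ ∃ k ∈ Γ, k (pr x14) = g⁻¹ u := fun e => nu (by simpa using mv g hg _ e)
      rcases cs _ m with e' | e' | e' | e'
      · exact absurd ((g⁻¹).map_eq_one_iff.1 e') u1
      · exact absurd ⟨1, one_mem _, e'.symm⟩ nu'
      · exact e'
      · obtain ⟨a, b, c, k⟩ := (by decide +kernel : ∀ w : V6, w.b25 = false ∧ w.b35 = false ∧ w.b45 = false →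
          w.b12 = true → ∀ x : V6, x.b25 = false ∧ x.b35 = false ∧ x.b45 = false → x.b12 = true →
          ∃ a b c, act (dd a b c) w = x) _ (kp g hg (pr x14) ⟨rfl, rfl, rfl⟩) e _ m e'
        exact absurd (k ▸ mv _ (DΓ _) _ ⟨g, hg, rfl⟩) nu'
    have k1 := key (pr x13) (by decide) ⟨rfl, rfl, rfl⟩ n1
    have k2 := key (pr x13 * pr x14) (by decide) ⟨rfl, rfl, rfl⟩ n2
    have ne : g⁻¹ (pr x13) ≠ g⁻¹ (pr x13 * pr x14) := (g⁻¹).injective.ne (by decide)
    have : g⁻¹ (pr x14) = pr x14 := by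
      rw [show g⁻¹ (pr x14) = g⁻¹ (pr x13) * g⁻¹ (pr x13 * pr x14) by
        rw [← map_mul, ← mul_assoc, V6.sq, one_mul]]
      rcases k1 with k1 | k1 <;> rcases k2 with k2 | k2 <;> rw [k1, k2] at ne ⊢ <;>
        first | exact absurd rfl ne | decide
    conv_lhs => rw [← this]
    simp
  let P : Subgroup (MulAut V6) :=
    { carrier := {g | g ∈ Γ ∧ ∀ v, Vb v → g v = v ∨ g v = v * pr x14}
      one_mem' := ⟨one_mem _, fun v _ => Or.inl rfl⟩
      mul_mem' := fun {a b} ha hb => ⟨mul_mem ha.1 hb.1, fun v hv => by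
        rw [MulAut.mul_apply]
        rcases hb.2 v hv with e | e <;> rw [e]
        · exact ha.2 v hv
        · rw [map_mul, fx a ha.1]
          rcases ha.2 v hv with e' | e' <;> rw [e']
          exacts [Or.inr rfl, Or.inl (by rw [mul_assoc, V6.sq, mul_one])]⟩
      inv_mem' := fun {a} ha => ⟨inv_mem ha.1, fun v hv => by
        rcases ha.2 _ (kp _ (inv_mem ha.1) v hv) with e | e <;> rw [MulAut.apply_inv_self] at e
        · exact Or.inl e.symm
        · exact Or.inr (by conv_rhs => rw [e, mul_assoc, V6.sq, mul_one])⟩ }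
  have := hO P (fun g hg => hg.1) (fun ⟨g, hg, k⟩ => ⟨2, Subtype.ext (MulEquiv.ext fun v => ?_)⟩)
    (le_norm_iff.2 fun k hk g hg => ⟨mul_mem (mul_mem hk hg.1) (inv_mem hk), fun v hv => by
      rw [MulAut.mul_apply, MulAut.mul_apply]
      rcases hg.2 _ (kp _ (inv_mem hk) v hv) with e | e <;> rw [e]
      · exact Or.inl (by simp)
      · exact Or.inr (by rw [map_mul, fx k hk]; simp)⟩)
  · have m : act x24 ∈ P := ⟨DΓ _, (by decide +kernel : ∀ v : V6, v.b25 = false ∧ v.b35 = false ∧ v.b45 = false →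
      act x24 v = v ∨ act x24 v = v * pr x14)⟩
    rw [this, mem_bot] at m
    exact absurd m (by decide +kernel)
  have f : ∀ u, Vb u → g (g u) = u := fun u hu => by
    rcases k u hu with e | e <;> rw [e]
    exacts [e, by rw [map_mul, e, fx g hg, mul_assoc, V6.sq, mul_one]]
  have b : ∀ u, Vb u → bf u (g (g v)) = bf u v := fun u hu => by
    conv_lhs => rw [← f u hu]
    rw [bf_map (h.q g hg), bf_map (h.q g hg)]
  have := f _ ((by decide +kernel : ∀ v w : V6, bf (pr x12) w = bf (pr x12) v → bf (pr x13) w = bf (pr x13) v →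
    bf (pr x14) w = bf (pr x14) v → (v * w).b25 = false ∧ (v * w).b35 = false ∧ (v * w).b45 = false) v _
    (b _ ⟨rfl, rfl, rfl⟩) (b _ ⟨rfl, rfl, rfl⟩) (b _ ⟨rfl, rfl, rfl⟩))
  rw [map_mul, map_mul, mul_comm] at this
  exact mul_right_cancel this

end Cfsg.Agent.UT5
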